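import Cfsg.Agent.H59.EP.UBGen
import Cfsg.Agent.H173.EP.LineBound
import Cfsg.Agent.H419.EP.Big
import Cfsg.Agent.TypeM.OutLyFin

/-!
# S3499-V, sporadic rows: Lagrange in `GL_n(F)` against the bounds UB1 + UB2; the row `Ly` (helper812)

* `exists_dvd` : a prime `s ∣ |Q|`, `s ∤ |F|`, divides `|F|^i - 1` for some `1 ≤ i ≤ n`;
* `card_le` : `|Q| ≤ N (1 + (∑ gal · (N/6) + N²/60 + N³/12744000) · 2(N/6))` if `|A| ∣ N`;
* `kill` : the contradiction from a finite table `(q, s, M)` and `bound ≤ q₁ ^ 78`;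
* `ly` : `soc(A)` is not the Lyons group.
-/

set_option autoImplicit false

namespace Cfsg.Agent.H812.EP

open Subgroup Cfsg Cfsg.Agent.H284 Cfsg.Agent.H419.EP Cfsg.Agent.H59.EP
open scoped MatrixGroups

section

variable {Q : Type} [Group Q] [Finite Q] {A : Subgroup Q} {Γ : Subgroup (MulAut Q)} {ι : Type} [Fintype ι]
    [DecidableEq ι] {F : Type} [Field F] [Fintype F] {S P : Subgroup (GL ι F)}

/-- the order of `GL ι F` -/
theorem card_GL : Nat.card (GL ι F) =
    ∏ i : Fin (Fintype.card ι), (Fintype.card F ^ Fintype.card ι - Fintype.card F ^ (i : ℕ)) := by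
  rw [← Matrix.card_GL_field (𝔽 := F) (Fintype.card ι)]
  exact Nat.card_congr (Units.mapEquiv (Matrix.reindexAlgEquiv F F (Fintype.equivFin ι)).toMulEquiv).toEquiv

omit [Finite Q] in
/-- `|Q|` divides `|GL_n(F)|` -/
theorem card_dvd_GL (m : Model Q S) : Nat.card Q ∣
    ∏ i : Fin (Fintype.card ι), (Fintype.card F ^ Fintype.card ι - Fintype.card F ^ (i : ℕ)) := by
  rw [← card_GL]
  exact (Subgroup.card_dvd_of_surjective m.π m.surj).trans (Subgroup.card_subgroup_dvd_card S)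

omit [Finite Q] in
/-- a prime dividing `|Q|` -/
theorem exists_dvd (m : Model Q S) {s : ℕ} (hs : s.Prime) (hsQ : s ∣ Nat.card Q) (hsq : ¬ s ∣ Fintype.card F) :
    ∃ i, 1 ≤ i ∧ i ≤ Fintype.card ι ∧ s ∣ Fintype.card F ^ i - 1 := by
  obtain ⟨i, _, hi⟩ := (Prime.dvd_finsetProd_iff hs.prime _).1 (hsQ.trans (card_dvd_GL m))
  have e : Fintype.card F ^ Fintype.card ι - Fintype.card F ^ (i : ℕ) =
      Fintype.card F ^ (i : ℕ) * (Fintype.card F ^ (Fintype.card ι - i) - 1) := by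
    rw [Nat.mul_sub, mul_one, ← pow_add, Nat.add_sub_cancel' i.2.le]
  rw [e, hs.dvd_mul] at hi
  rcases hi with hi | hi
  · exact absurd (hs.dvd_of_dvd_pow hi) hsq
  · exact ⟨Fintype.card ι - i, by omega, Nat.sub_le _ _, hi⟩

/-- the bound -/
def bnd (l : List (ℕ × ℕ)) (N : ℕ) : ℕ :=
  N * (1 + ((l.map fun x => gal x.1 x.2).sum * (N / 6) + N ^ 2 / 60 + N ^ 3 / 12744000) * (2 * (N / 6)))

/-- **UB1 + UB2** for the order of `Q` -/
theorem card_le (hg : TwoGen.{0}) (b : Big A Γ S P) (l : List (ℕ × ℕ)) (h1 : ∀ x ∈ l, x.1.Prime ∧ 0 < x.2)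
    (h2 : (l.map Prod.fst).Nodup) {N : ℕ} (hN : (l.map fun x => x.1 ^ x.2).prod = N) (hc : Nat.card A ∣ N)
    (hB : N < 60 ^ 61) : Nat.card Q ≤ bnd l N := by
  have hN0 : 0 < N := by
    rw [← hN]
    apply Nat.pos_of_ne_zero
    apply List.prod_ne_zero
    intro h0
    obtain ⟨x, hx, e⟩ := List.mem_map.1 h0
    exact (pow_ne_zero _ (h1 x hx).1.ne_zero) e
  have hab : ∀ K : Subgroup Q, K ≤ A → (∀ a ∈ A, ∀ k ∈ K, a * k * a⁻¹ ∈ K) →
      (∀ a ∈ K, ∀ b ∈ K, a * b = b * a) → K = ⊥ := fun K hK hn hab =>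
    b.hasSoc.no_abelian b.core.simple (fun h => b.core.nonabelian ⟨⟨h⟩⟩) hK hn hab
  have h3 := EPT.ncard_le_gen_dvd b.ept hg hab l h1 h2 (hN ▸ hc) (hN ▸ hB)
  have h4 := index_le_of h3 (Cfsg.Agent.H173.EP.ub1 b.simple b.ept (by norm_num) fun _ hx => EPT.six_le b.ept hab hx)
    le_rfl
  rw [hN] at h4
  have h5 : Nat.card A ≤ N := Nat.le_of_dvd hN0 hc
  rw [← Subgroup.card_mul_index A, bnd]
  refine Nat.mul_le_mul h5 (h4.trans (Nat.add_le_add_left (Nat.mul_le_mul_left _ (Nat.mul_le_mul_left _ ?_)) 1))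
  exact Nat.div_le_div_right h5

/-- a table entry `(q, s, M)`: `|F| = q` implies `n ≥ M` by the prime `s`, and then `B < |Q|` -/
def ok (B N : ℕ) (x : ℕ × ℕ × ℕ) : Bool :=
  decide (8 * B < x.1 ^ (x.2.2 * (x.2.2 - 1) / 2)) && decide (x.2.1.gcd x.1 = 1) && decide (N % x.2.1 = 0) &&
    (List.range (x.2.2 - 1)).all fun i => decide ((x.1 ^ (i + 1) - 1) % x.2.1 ≠ 0)

/-- **The contradiction** from the orders: `B` an upper bound for `|Q|`, `N ∣ |Q|`, `t` a table for the fields with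
less than `q₁` elements. -/
theorem kill (b : Big A Γ S P) {B N q₁ : ℕ} (hB : Nat.card Q ≤ B) (hN : N ∣ Nat.card Q) (hq₁ : 8 * B < q₁ ^ 78)
    (t : List (ℕ × ℕ × ℕ)) (ht : t.all (ok B N) = true) (hp : ∀ x ∈ t, x.2.1.Prime)
    (hq : ∀ q, 2 ≤ q → q < q₁ → q ∈ t.map Prod.fst) : False := by
  have hord := b.ord
  have hn := b.thirteen
  have hmul : 13 * (13 - 1) / 2 ≤ Fintype.card ι * (Fintype.card ι - 1) / 2 :=
    Nat.div_le_div_right (Nat.mul_le_mul hn (by omega))
  have h2 := b.two_le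
  rcases Nat.lt_or_ge (Fintype.card F) q₁ with h | h
  · obtain ⟨x, hx, hx1⟩ := List.mem_map.1 (hq _ h2 h)
    have h3 := List.all_eq_true.1 ht x hx
    simp only [ok, Bool.and_eq_true, decide_eq_true_eq, List.all_eq_true, List.mem_range] at h3
    obtain ⟨⟨⟨h4, h5⟩, h6⟩, h7⟩ := h3
    have hsp := hp x hx
    rw [hx1] at h4 h5 h7
    have hsq : ¬ x.2.1 ∣ Fintype.card F := by
      intro hd
      have := Nat.dvd_gcd dvd_rfl hd
      rw [h5] at this
      exact hsp.one_lt.ne' (Nat.dvd_one.1 this)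
    obtain ⟨i, hi1, hi2, hi3⟩ := exists_dvd b.m hsp ((Nat.dvd_of_mod_eq_zero h6).trans hN) hsq
    have h8 : x.2.2 ≤ i := by
      by_contra hcon
      push Not at hcon
      have := h7 (i - 1) (by omega)
      rw [Nat.sub_add_cancel hi1] at this
      exact this (Nat.mod_eq_zero_of_dvd hi3)
    have h9 : x.2.2 ≤ Fintype.card ι := h8.trans hi2
    have h10 : Fintype.card F ^ (x.2.2 * (x.2.2 - 1) / 2) ≤ 8 * Nat.card Q :=
      le_trans (Nat.pow_le_pow_right (by omega) (Nat.div_le_div_right (Nat.mul_le_mul h9 (by omega)))) hord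
    omega
  · have h10 : q₁ ^ 78 ≤ 8 * Nat.card Q :=
      le_trans (Nat.pow_le_pow_left h 78) (le_trans (Nat.pow_le_pow_right (by omega) hmul) hord)
    omega

omit [Finite Q] in
/-- `|soc(A)|` divides `|Q|` -/
theorem soc_dvd {L : Type*} [Group L] (h : HasSoc A L) : Nat.card L ∣ Nat.card Q :=
  h.card_dvd.trans (Subgroup.card_subgroup_dvd_card A)

/-- `A` is its socle if the socle has no outer automorphisms -/
theorem card_eq_of_inner {L : Type*} [Group L] [Finite L] (h : HasSoc A L)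
    (hi : ∀ φ : MulAut L, φ ∈ (MulAut.conj : L →* MulAut L).range) : Nat.card A = Nat.card L := by
  have h1 : Function.Surjective (MulAut.conj : L →* MulAut L) := hi
  exact le_antisymm (h.card_le.trans (Nat.card_le_card_of_surjective _ h1)) (Nat.le_of_dvd Nat.card_pos h.card_dvd)

end

/-- **Row `Ly`** -/
theorem ly (hg : TwoGen.{0}) : BigOf (fun L _ => Spor.IsoLy L) := by
  rintro Q _ _ A Γ ι _ _ F _ _ S P b ⟨e⟩
  have hcard : Nat.card Spor.Ly = 51765179004000000 := Cfsg.Agent.Ly.Setup.card_ly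
  have hfin : Finite Spor.Ly := Cfsg.Agent.Ly.Setup.finite_ly
  have hA : Nat.card A = 51765179004000000 := by
    rw [← hcard]
    exact card_eq_of_inner (b.hasSoc' e) Cfsg.Agent.TypeM.OutLyFin.inner_ly
  have hQ := card_le hg b [(2, 8), (3, 7), (5, 6), (7, 1), (11, 1), (31, 1), (37, 1), (67, 1)]
    (by
      intro x hx
      simp only [List.mem_cons, List.not_mem_nil, or_false] at hx
      rcases hx with rfl | rfl | rfl | rfl | rfl | rfl | rfl | rfl <;> norm_num) (by decide)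
    (N := 51765179004000000) (by norm_num) (by rw [hA]) (by norm_num)
  refine kill b hQ (N := 51765179004000000) (q₁ := 10) (hcard ▸ soc_dvd (b.hasSoc' e)) (by decide +kernel)
    [(2, 67, 24), (3, 67, 19), (4, 67, 17), (5, 67, 16), (6, 67, 15), (7, 67, 15), (8, 67, 14), (9, 31, 14)]
    (by decide +kernel) ?_ ?_
  · intro x hx
    simp only [List.mem_cons, List.not_mem_nil, or_false] at hx
    rcases hx with rfl | rfl | rfl | rfl | rfl | rfl | rfl | rfl <;> norm_num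
  · intro q h1 h2
    interval_cases q <;> decide

end Cfsg.Agent.H812.EP
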